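import Groth.Agent.FlatExtLib.ExtBC
import Groth.Agent.DualCxLib.LocDual

/-!
# The unit of flat base change and cohomology
-/

set_option autoImplicit false
set_option linter.unusedSectionVars false
set_option maxHeartbeats 1000000

universe u

open CategoryTheory CategoryTheory.Limits HomologicalComplex
open Groth.Agent DTen
open DTenLib.Point (hH sg)
open scoped TensorProduct

attribute [local instance] HasDerivedCategory.standard

noncomputable section

namespace FlatExtLib

open Groth.Agent.DualCxLib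

variable {A S : Type u} [CommRing A] [CommRing S] [Algebra A S]

local notation "φ" => algebraMap A S

/-- Postcomposition of `η` with the scalars. -/
def theta {ω : Dual.D A} {Z : Dual.D S} (η : ω ⟶ (DRing.restrictD φ).obj Z) :
    S →ₗ[A] (ω ⟶ (DRing.restrictD φ).obj Z) where
  toFun s := η ≫ (DRing.restrictD φ).map (s • 𝟙 Z)
  map_add' s t := by rw [add_smul, Functor.map_add, Preadditive.comp_add]
  map_smul' r s := by
    rw [Algebra.smul_def, mul_smul, restrictD_smul, Linear.comp_smul, RingHom.id_apply]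

theorem theta_one {ω : Dual.D A} {Z : Dual.D S} (η : ω ⟶ (DRing.restrictD φ).obj Z) : theta η 1 = η := by
  show η ≫ (DRing.restrictD φ).map ((1 : S) • 𝟙 Z) = η
  rw [one_smul, CategoryTheory.Functor.map_id, Category.comp_id]

/-- `η` is a base change on cohomology. -/
def IsBC {ω : Dual.D A} {Z : Dual.D S} (η : ω ⟶ (DRing.restrictD φ).obj Z) : Prop :=
  ∀ i, ∃ F : S ⊗[A] (hH A i).obj ω ≃ₗ[A] (hH A i).obj ((DRing.restrictD φ).obj Z),
    ∀ s x, F (s ⊗ₜ x) = ((hH A i).map (theta η s)).hom x

variable [Module.Flat A S]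

/-- The unit of termwise base change is a base change on cohomology. -/
theorem isBC_γ (P : DRing.Cx A) : IsBC (γ φ P) := by
  intro i
  let G := ModuleCat.extendScalars.{u, u, u} φ ⋙ ModuleCat.restrictScalars.{u} φ
  haveI : PreservesFiniteLimits (ModuleCat.extendScalars.{u, u, u} φ) :=
    ModuleCat.preservesFiniteLimits_extendScalars_of_flat (RingHom.flat_algebraMap_iff.2 inferInstance)
  haveI : PreservesFiniteLimits G := comp_preservesFiniteLimits _ _
  haveI : PreservesFiniteColimits G := comp_preservesFiniteColimits _ _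
  let η : 𝟭 (ModuleCat.{u} A) ⟶ G := (ModuleCat.extendRestrictScalarsAdj.{u, u, u} φ).unit
  let μ : S → (G ⟶ G) := fun s =>
    { app := fun N => (ModuleCat.restrictScalars.{u} φ).map (s • 𝟙 ((ModuleCat.extendScalars.{u, u, u} φ).obj N))
      naturality := fun N N' f => by
        show (ModuleCat.restrictScalars.{u} φ).map _ ≫ _ = _ ≫ (ModuleCat.restrictScalars.{u} φ).map _
        rw [← Functor.map_comp, ← Functor.map_comp, Linear.comp_smul, Category.comp_id, Linear.smul_comp,
          Category.id_comp] }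
  let FF := DerivedCategory.homologyFunctorFactors (ModuleCat.{u} A) i
  let e : (hH A i).obj (DerivedCategory.Q.obj P) ≅ (P.sc i).homology :=
    FF.app P ≪≫ ((P.sc i).mapHomologyIso (𝟭 _))
  let e' : (hH A i).obj ((DRing.restrictD φ).obj (DerivedCategory.Q.obj ((extCx φ).obj P))) ≅
      G.obj (P.sc i).homology :=
    (hH A i).mapIso ((resFactors φ).app ((extCx φ).obj P)) ≪≫ FF.app _ ≪≫ (P.sc i).mapHomologyIso G
  have h : (hH A i).map (γ φ P) = e.hom ≫ η.app (P.sc i).homology ≫ e'.inv := by
    rw [← Category.assoc, Iso.eq_comp_inv, NatTrans.app_homology η (P.sc i)]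
    show (hH A i).map (γ φ P) ≫ (hH A i).map ((resFactors φ).hom.app _) ≫ FF.hom.app _ ≫ _ =
      (FF.hom.app P ≫ _) ≫ _
    rw [← Category.assoc ((hH A i).map (γ φ P)), ← Functor.map_comp]
    have h1 : γ φ P ≫ (resFactors φ).hom.app ((extCx φ).obj P) = DerivedCategory.Q.map ((unitCx φ).app P) :=
      (Category.assoc _ _ _).trans ((congrArg (DerivedCategory.Q.map ((unitCx φ).app P) ≫ ·) ((resFactors φ).inv_hom_id_app ((extCx φ).obj P))).trans (Category.comp_id _))
    rw [h1, ← Category.assoc, Category.assoc (FF.hom.app P)]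
    refine Eq.trans ?_ (congrArg (FF.hom.app P ≫ ·) ((Iso.hom_inv_id_assoc _ _).symm))
    refine Eq.trans ?_ (Category.assoc _ _ _)
    exact congrArg (· ≫ ((P.sc i).mapHomologyIso G).hom) (FF.hom.naturality ((unitCx φ).app P))
  have hs : ∀ s : S, (hH A i).map ((DRing.restrictD φ).map (s • 𝟙 (DerivedCategory.Q.obj ((extCx φ).obj P)))) =
      e'.hom ≫ (μ s).app (P.sc i).homology ≫ e'.inv := fun s => by
    rw [← Category.assoc, Iso.eq_comp_inv, NatTrans.app_homology (μ s) (P.sc i)]
    have h1 : (DRing.restrictD φ).map (s • 𝟙 (DerivedCategory.Q.obj ((extCx φ).obj P))) ≫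
        (resFactors φ).hom.app ((extCx φ).obj P) =
        (resFactors φ).hom.app ((extCx φ).obj P) ≫
          DerivedCategory.Q.map ((resCx φ).map (s • 𝟙 ((extCx φ).obj P))) := by
      rw [← CategoryTheory.Functor.map_id, ← Functor.map_smul]
      exact (resFactors φ).hom.naturality _
    show (hH A i).map _ ≫ (hH A i).map ((resFactors φ).hom.app _) ≫ FF.hom.app _ ≫ _ =
      ((hH A i).map ((resFactors φ).hom.app _) ≫ FF.hom.app _ ≫ _) ≫ _
    rw [← Category.assoc ((hH A i).map _), ← Functor.map_comp, h1, Functor.map_comp, Category.assoc,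
      Category.assoc, Category.assoc]
    refine congrArg ((hH A i).map ((resFactors φ).hom.app _) ≫ ·) ?_
    refine Eq.trans ?_ (congrArg (FF.hom.app _ ≫ ·) ((Iso.hom_inv_id_assoc _ _).symm))
    refine Eq.trans ?_ (Category.assoc _ _ _)
    refine Eq.trans (Category.assoc _ _ _).symm ?_
    exact congrArg (· ≫ ((P.sc i).mapHomologyIso G).hom)
      (FF.hom.naturality ((resCx φ).map (s • 𝟙 ((extCx φ).obj P))))
  refine ⟨(LinearEquiv.lTensor S e.toLinearEquiv).trans
    ((extEquiv (S := S) _).symm.trans e'.symm.toLinearEquiv), fun s x => ?_⟩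
  have h2 : (hH A i).map (theta (γ φ P) s) = e.hom ≫ η.app _ ≫ (μ s).app _ ≫ e'.inv := by
    show (hH A i).map (γ φ P ≫ _) = _
    rw [Functor.map_comp, h, hs]
    simp only [Category.assoc, Iso.inv_hom_id_assoc]
    rfl
  rw [h2]
  show e'.inv.hom ((extEquiv (S := S) _).symm (s ⊗ₜ[A] e.hom.hom x)) =
    e'.inv.hom (((μ s).app _).hom ((η.app _).hom (e.hom.hom x)))
  congr 1
  refine (extEquiv (S := S) _).injective (((extEquiv (S := S) _).apply_symm_apply _).trans ?_)
  show s ⊗ₜ[A] _ = ((show S from s * 1)) ⊗ₜ[A] _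
  exact congrArg (fun t : S => t ⊗ₜ[A] e.hom.hom x) (mul_one s).symm

theorem IsBC.comp_iso {X X' : Dual.D A} {Z Z' : Dual.D S} {η : X ⟶ (DRing.restrictD φ).obj Z}
    (h : IsBC η) (e : X' ≅ X) (f : Z ≅ Z') :
    IsBC (e.hom ≫ η ≫ (DRing.restrictD φ).map f.hom) := fun i => by
  obtain ⟨F, hF⟩ := h i
  refine ⟨(LinearEquiv.lTensor S ((hH A i).mapIso e).toLinearEquiv).trans
    (F.trans ((hH A i).mapIso ((DRing.restrictD φ).mapIso f)).toLinearEquiv), fun s x => ?_⟩
  have h2 : theta (e.hom ≫ η ≫ (DRing.restrictD φ).map f.hom) s =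
      e.hom ≫ theta η s ≫ (DRing.restrictD φ).map f.hom := by
    show (e.hom ≫ η ≫ _) ≫ (DRing.restrictD φ).map (s • 𝟙 Z') =
      e.hom ≫ (η ≫ (DRing.restrictD φ).map (s • 𝟙 Z)) ≫ _
    simp only [Category.assoc, ← Functor.map_comp, Linear.comp_smul, Linear.smul_comp, Category.comp_id,
      Category.id_comp]
  rw [h2, Functor.map_comp, Functor.map_comp]
  exact congrArg ((hH A i).map ((DRing.restrictD φ).map f.hom)).hom (hF s _)

theorem isUniv_γ_flat (P : DRing.Cx A) : IsUniv φ (γ φ P) := fun W =>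
  bijective_γ φ (fun _ s hs => by
    haveI : PreservesFiniteLimits (ModuleCat.extendScalars.{u, u, u} φ) :=
      ModuleCat.preservesFiniteLimits_extendScalars_of_flat (RingHom.flat_algebraMap_iff.2 inferInstance)
    haveI := hs
    haveI : QuasiIso ((extCx φ).map s) := inferInstance
    infer_instance) W

theorem exists_bc (X : Dual.D A) :
    ∃ (Z : Dual.D S) (η : X ⟶ (DRing.restrictD φ).obj Z), IsBC η := by
  let P := DerivedCategory.Q.objPreimage X
  let e : DerivedCategory.Q.obj P ≅ X := DerivedCategory.Q.objObjPreimageIso X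
  exact ⟨_, _, (isBC_γ P).comp_iso e.symm (Iso.refl _)⟩

theorem exists_univ_single (N : ModuleCat.{u} A) {N' : ModuleCat.{u} S}
    (h : (ModuleCat.extendScalars.{u, u, u} φ).obj N ≅ N') :
    ∃ η : (DerivedCategory.singleFunctor (ModuleCat.{u} A) 0).obj N ⟶
        (DRing.restrictD φ).obj ((DerivedCategory.singleFunctor (ModuleCat.{u} S) 0).obj N'),
      IsUniv φ η := by
  let P : DRing.Cx A := (HomologicalComplex.single (ModuleCat.{u} A) (ComplexShape.up ℤ) 0).obj N
  let e : (DerivedCategory.singleFunctor (ModuleCat.{u} A) 0).obj N ≅ DerivedCategory.Q.obj P :=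
    (DerivedCategory.singleFunctorIsoCompQ (ModuleCat.{u} A) 0).app N
  let f : DerivedCategory.Q.obj ((extCx φ).obj P) ≅
      (DerivedCategory.singleFunctor (ModuleCat.{u} S) 0).obj N' :=
    DerivedCategory.Q.mapIso ((HomologicalComplex.singleMapHomologicalComplex
      (ModuleCat.extendScalars.{u, u, u} φ) (ComplexShape.up ℤ) 0).app N ≪≫
      (HomologicalComplex.single (ModuleCat.{u} S) (ComplexShape.up ℤ) 0).mapIso h) ≪≫
      ((DerivedCategory.singleFunctorIsoCompQ (ModuleCat.{u} S) 0).app N').symm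
  exact ⟨_, (isUniv_γ_flat P).comp_iso e f⟩

end FlatExtLib
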