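import Groth.Agent.FlatExtLib.Dual
import Groth.Agent.DualCxLib.LocTor

/-!
# Flat base change of `Hom` out of a bounded object with finite cohomology
-/

set_option autoImplicit false
set_option linter.all false
set_option maxHeartbeats 1000000

universe u

open CategoryTheory CategoryTheory.Limits CategoryTheory.Pretriangulated
open Groth.Agent
open DTenLib.Point (hH sg)
open scoped TensorProduct

attribute [local instance] HasDerivedCategory.standard

noncomputable section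

namespace FlatExtLib

open Groth.Agent.DualCxLib

variable {A : Type u} [CommRing A] {S : Type u} [AddCommGroup S] [Module A S]
  {ω T : Dual.D A} (θ : S →ₗ[A] (ω ⟶ T))

/-- Postcomposition, out of any object. -/
def postX (X : Dual.D A) (i : ℤ) : S →ₗ[A] (X ⟶ ω⟦i⟧) →ₗ[A] (X ⟶ T⟦i⟧) where
  toFun s :=
    { toFun := fun f => f ≫ (θ s)⟦i⟧'
      map_add' := fun f g => by
        show (f + g) ≫ (θ s)⟦i⟧' = f ≫ (θ s)⟦i⟧' + g ≫ (θ s)⟦i⟧'
        rw [Preadditive.add_comp]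
      map_smul' := fun r f => by
        show (r • f) ≫ (θ s)⟦i⟧' = r • (f ≫ (θ s)⟦i⟧')
        rw [Linear.smul_comp] }
  map_add' s t := LinearMap.ext fun f => by
    show f ≫ (θ (s + t))⟦i⟧' = f ≫ (θ s)⟦i⟧' + f ≫ (θ t)⟦i⟧'
    rw [map_add, Functor.map_add, Preadditive.comp_add]
  map_smul' r s := LinearMap.ext fun f => by
    show f ≫ (θ (r • s))⟦i⟧' = r • (f ≫ (θ s)⟦i⟧')
    rw [map_smul, Functor.map_smul, Linear.comp_smul]

/-- The comparison map, out of any object. -/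
def bcX (X : Dual.D A) (i : ℤ) : S ⊗[A] (X ⟶ ω⟦i⟧) →ₗ[A] (X ⟶ T⟦i⟧) :=
  TensorProduct.lift (postX θ X i)

theorem bcX_tmul (X : Dual.D A) (i : ℤ) (s : S) (f : X ⟶ ω⟦i⟧) :
    bcX θ X i (s ⊗ₜ f) = f ≫ (θ s)⟦i⟧' := rfl

/-- Precomposition, linearly. -/
def preL {X X' : Dual.D A} (h : X ⟶ X') (Y : Dual.D A) : (X' ⟶ Y) →ₗ[A] (X ⟶ Y) where
  toFun f := h ≫ f
  map_add' f g := by rw [Preadditive.comp_add]
  map_smul' r f := by rw [Linear.comp_smul, RingHom.id_apply]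

theorem bcX_pre {X X' : Dual.D A} (h : X ⟶ X') (i : ℤ) (z : S ⊗[A] (X' ⟶ ω⟦i⟧)) :
    bcX θ X i ((preL h (ω⟦i⟧)).lTensor S z) = h ≫ bcX θ X' i z := by
  induction z using TensorProduct.induction_on with
  | zero => simp
  | tmul s f => exact @Category.assoc (Dual.D A) _ _ _ _ _ h f _
  | add x y hx hy => simp only [map_add, hx, hy, Preadditive.comp_add]

theorem bijective_bcX_of_iso {X X' : Dual.D A} (e : X ≅ X') (i : ℤ)
    (h : Function.Bijective (bcX θ X i)) : Function.Bijective (bcX θ X' i) := by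
  have h1 : ∀ z : S ⊗[A] (X ⟶ ω⟦i⟧),
      bcX θ X' i ((preL e.inv (ω⟦i⟧)).lTensor S z) = e.inv ≫ bcX θ X i z := bcX_pre θ e.inv i
  have h2 : ∀ z : S ⊗[A] (X' ⟶ ω⟦i⟧),
      (preL e.inv (ω⟦i⟧)).lTensor S ((preL e.hom (ω⟦i⟧)).lTensor S z) = z := fun z => by
    induction z using TensorProduct.induction_on with
    | zero => simp
    | tmul s f =>
      show s ⊗ₜ[A] (e.inv ≫ e.hom ≫ f) = _
      rw [e.inv_hom_id_assoc]
    | add x y hx hy => simp only [map_add, hx, hy]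
  refine ⟨(injective_iff_map_eq_zero _).2 fun z hz => ?_, fun g => ?_⟩
  · have h3 : (preL e.hom (ω⟦i⟧)).lTensor S z = 0 := (map_eq_zero_iff _ h.1).1 (by
      rw [bcX_pre θ e.hom i z, hz, comp_zero])
    rw [← h2 z, h3, map_zero]
  · obtain ⟨w, hw⟩ := h.2 (e.hom ≫ g)
    exact ⟨(preL e.inv (ω⟦i⟧)).lTensor S w, by rw [h1, hw, e.inv_hom_id_assoc]⟩

/-- Shifting both variables. -/
theorem bijective_bcX_shift (X : Dual.D A) (j k i : ℤ) (hji : k + j = i)
    (h : Function.Bijective (bcX θ X k)) : Function.Bijective (bcX θ (X⟦j⟧) i) := by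
  let Φ : ∀ Y : Dual.D A, (X ⟶ Y⟦k⟧) ≃ₗ[A] (X⟦j⟧ ⟶ Y⟦i⟧) := fun Y =>
    (LinearEquiv.ofBijective ((shiftFunctor (Dual.D A) j).mapLinearMap A (X := X) (Y := Y⟦k⟧))
      ⟨fun _ _ h => (shiftFunctor (Dual.D A) j).map_injective h,
        fun g => (shiftFunctor (Dual.D A) j).map_surjective g⟩).trans
      (postcompL _ (shift₂ Y k j i hji))
  have hΦ : ∀ (Y : Dual.D A) (f : X ⟶ Y⟦k⟧),
      Φ Y f = f⟦j⟧' ≫ (shiftFunctorAdd' (Dual.D A) k j i hji).inv.app Y := fun Y f => by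
    simp [Φ, postcompL, shift₂, Linear.homCongr_apply]
  have key : ∀ z : S ⊗[A] (X ⟶ ω⟦k⟧),
      bcX θ (X⟦j⟧) i (LinearEquiv.lTensor S (Φ ω) z) = Φ T (bcX θ X k z) := fun z => by
    induction z using TensorProduct.induction_on with
    | zero => simp
    | tmul s f =>
      show Φ ω f ≫ (θ s)⟦i⟧' = Φ T (f ≫ (θ s)⟦k⟧')
      rw [hΦ, hΦ, Functor.map_comp, Category.assoc, Category.assoc]
      exact congrArg (f⟦j⟧' ≫ ·) ((shiftFunctorAdd' (Dual.D A) k j i hji).inv.naturality (θ s)).symm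
    | add x y hx hy => simp only [map_add, hx, hy]
  have h1 : Function.Bijective (⇑(bcX θ (X⟦j⟧) i) ∘ ⇑(LinearEquiv.lTensor S (Φ ω))) := by
    rw [show ⇑(bcX θ (X⟦j⟧) i) ∘ ⇑(LinearEquiv.lTensor S (Φ ω)) = ⇑(Φ T) ∘ ⇑(bcX θ X k) from
      funext key]
    exact (Φ T).bijective.comp h
  exact (Function.Bijective.of_comp_iff _ (LinearEquiv.lTensor S (Φ ω)).bijective).1 h1

variable [Module.Flat A S]

/-- The five lemma. -/
theorem bijective_bcX_mid {Tr : Triangle (Dual.D A)} (hTr : Tr ∈ distinguishedTriangles) (i : ℤ)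
    (h1' : Function.Bijective (bcX θ (Tr.obj₁⟦(1 : ℤ)⟧) i)) (h1 : Function.Bijective (bcX θ Tr.obj₁ i))
    (h3 : Function.Bijective (bcX θ Tr.obj₃ i))
    (h3' : Function.Bijective (bcX θ (Tr.obj₃⟦(-1 : ℤ)⟧) i)) :
    Function.Bijective (bcX θ Tr.obj₂ i) := by
  have ex2 : Function.Exact (preL Tr.mor₂ (ω⟦i⟧)) (preL Tr.mor₁ (ω⟦i⟧)) := fun x =>
    ⟨fun hx => (Triangle.yoneda_exact₂ _ hTr x hx).imp fun _ h => h.symm, fun ⟨w, hw⟩ => by
      rw [← hw]
      show Tr.mor₁ ≫ Tr.mor₂ ≫ w = 0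
      rw [comp_distTriang_mor_zero₁₂_assoc _ hTr, zero_comp]⟩
  let k : Tr.obj₃⟦(-1 : ℤ)⟧ ⟶ Tr.obj₁ := Tr.invRotate.mor₁
  have hk0 : k ≫ Tr.mor₁ = 0 := comp_distTriang_mor_zero₁₂ _ (inv_rot_of_distTriang _ hTr)
  have ex1 : Function.Exact (preL Tr.mor₁ (ω⟦i⟧)) (preL k (ω⟦i⟧)) := fun x =>
    ⟨fun hx => (Triangle.yoneda_exact₂ _ (inv_rot_of_distTriang _ hTr) x hx).imp fun _ h => h.symm,
      fun ⟨w, hw⟩ => by
        rw [← hw]
        show k ≫ Tr.mor₁ ≫ w = 0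
        rw [← Category.assoc, hk0, zero_comp]⟩
  refine ⟨(injective_iff_map_eq_zero _).2 fun z hz => ?_, fun y => ?_⟩
  · have hf : (preL Tr.mor₁ (ω⟦i⟧)).lTensor S z = 0 :=
      (map_eq_zero_iff _ h1.1).1 (by rw [bcX_pre, hz, comp_zero])
    obtain ⟨w, rfl⟩ := (Module.Flat.lTensor_exact S ex2 z).1 hf
    rw [bcX_pre] at hz
    obtain ⟨v, hv⟩ := Triangle.yoneda_exact₃ _ hTr _ hz
    obtain ⟨v', rfl⟩ := h1'.2 v
    rw [← bcX_pre] at hv
    rw [h3.1 hv, ← LinearMap.comp_apply, ← LinearMap.lTensor_comp]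
    have h0 : (preL Tr.mor₂ (ω⟦i⟧)).comp (preL Tr.mor₃ (ω⟦i⟧)) = 0 := LinearMap.ext fun g => by
      show Tr.mor₂ ≫ Tr.mor₃ ≫ g = 0
      rw [comp_distTriang_mor_zero₂₃_assoc _ hTr, zero_comp]
    rw [h0, LinearMap.lTensor_zero, LinearMap.zero_apply]
  · obtain ⟨v, hv⟩ := h1.2 (Tr.mor₁ ≫ y)
    have hk : (preL k (ω⟦i⟧)).lTensor S v = 0 := (map_eq_zero_iff _ h3'.1).1 (by
      rw [bcX_pre θ k i v, hv, ← Category.assoc, hk0, zero_comp])
    obtain ⟨v', rfl⟩ := (Module.Flat.lTensor_exact S ex1 v).1 hk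
    rw [bcX_pre] at hv
    obtain ⟨w, hw⟩ := Triangle.yoneda_exact₂ _ hTr (y - bcX θ Tr.obj₂ i v')
      (by rw [Preadditive.comp_sub, hv, sub_self])
    obtain ⟨w', rfl⟩ := h3.2 w
    exact ⟨(preL Tr.mor₂ (ω⟦i⟧)).lTensor S w' + v', by rw [map_add, bcX_pre, ← hw, sub_add_cancel]⟩

variable [IsNoetherianRing A]

/-- The comparison is bijective on bounded objects with finite cohomology once it is on `A`. -/
theorem bijective_bcX {a : ℤ} (haω : ω.IsGE a) (haT : T.IsGE a)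
    (hA : ∀ i, Function.Bijective (bc θ (ModuleCat.of A A) i))
    {X : Dual.D A} {c : ℤ} {k : ℕ} (hX : ∀ i, (i < c ∨ c + k ≤ i) → IsZero ((hH A i).obj X))
    (hXf : ∀ i, Module.Finite A ((hH A i).obj X)) (i : ℤ) : Function.Bijective (bcX θ X i) := by
  let P : Dual.D A → Prop := fun X => ∀ j l : ℤ, Function.Bijective (bcX θ (X⟦j⟧) l)
  have shc : ∀ (X : Dual.D A) (j j' l : ℤ), P X → Function.Bijective (bcX θ ((X⟦j⟧)⟦j'⟧) l) :=
    fun X j j' l h => bijective_bcX_of_iso θ ((shiftFunctorAdd' (Dual.D A) j j' (j + j') rfl).app X) l (h _ _)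
  have hd : DRingLib.Devissable P :=
    { iso := fun {X Y : Dual.D A} (e : X ≅ Y) (h : P X) (j l : ℤ) =>
        bijective_bcX_of_iso θ ((shiftFunctor (Dual.D A) j).mapIso e) l (h j l)
      zero := fun {X : Dual.D A} (h : IsZero X) (j l : ℤ) => by
        have hz := (shiftFunctor (Dual.D A) j).map_isZero h
        haveI : Subsingleton (X⟦j⟧ ⟶ ω⟦l⟧) := ⟨fun f g => hz.eq_of_src f g⟩
        haveI : Subsingleton (X⟦j⟧ ⟶ T⟦l⟧) := ⟨fun f g => hz.eq_of_src f g⟩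
        haveI : Subsingleton (S ⊗[A] (X⟦j⟧ ⟶ ω⟦l⟧)) := subsingleton_of_forall_eq 0 fun z => by
          induction z using TensorProduct.induction_on with
          | zero => rfl
          | tmul s f => rw [Subsingleton.elim f 0, TensorProduct.tmul_zero]
          | add x y hx hy => rw [hx, hy, add_zero]
        exact ⟨fun x y _ => Subsingleton.elim _ _, fun y => ⟨0, Subsingleton.elim _ _⟩⟩
      ext := fun Tr hT (h1 : P Tr.obj₁) (h3 : P Tr.obj₃) (j l : ℤ) =>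
        bijective_bcX_mid θ (Triangle.shift_distinguished _ hT j) l (shc _ j 1 l h1) (h1 j l) (h3 j l)
          (shc _ j (-1) l h3) }
  have hP : P X := DRingLib.Devissable.of_homology hd c k X hX fun m j l => by
    haveI := hXf m
    let s : (sg ((hH A m).obj X) 0)⟦-m⟧ ≅ sg ((hH A m).obj X) m :=
      DTenLib.Point.shiftSg _ 0 (-m) ≪≫ eqToIso (by simp)
    exact bijective_bcX_of_iso θ (((shiftFunctorAdd' (Dual.D A) (-m) j (-m + j) rfl).app _) ≪≫
      (shiftFunctor (Dual.D A) j).mapIso s) l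
      (bijective_bcX_shift θ (sg ((hH A m).obj X) 0) (-m + j) (l - (-m + j)) l (by omega)
        (bijective_bc θ haω haT hA ((hH A m).obj X) _))
  exact bijective_bcX_of_iso θ ((shiftFunctorZero (Dual.D A) ℤ).app X) i (hP 0 i)

end FlatExtLib
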