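import Groth.Agent.FlatExtLib.Unit
import Groth.Agent.DualCxLib.Uniq
import Groth.Agent.DualCxLib.Depth
import Groth.Agent.DRingLib.FlatBC
import Mathlib.RingTheory.TensorProduct.Quotient

/-!
# Dualizing complexes and flat local homomorphisms with trivial closed fibre
-/

set_option autoImplicit false
set_option linter.unusedSectionVars false
set_option maxHeartbeats 1000000

universe u

open CategoryTheory CategoryTheory.Limits
open Groth.Agent
open DTenLib.Point (hH sg)
open scoped TensorProduct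

attribute [local instance] HasDerivedCategory.standard

noncomputable section

namespace FlatExtLib

open Groth.Agent.DualCxLib

variable {A : Type u} [CommRing A] [IsNoetherianRing A] {S : Type u} [CommRing S] [Algebra A S]
  [Module.Flat A S]

local notation "φ" => algebraMap A S

theorem exists_isGE {ω : Dual.D A} {Z : Dual.D S} {η : ω ⟶ (DRing.restrictD φ).obj Z} (hη : IsBC η)
    {a : ℤ} (ha : ω.IsGE a) : ((DRing.restrictD φ).obj Z).IsGE a ∧ Z.IsGE a := by
  have h1 : ∀ i < a, IsZero ((hH A i).obj ((DRing.restrictD φ).obj Z)) := fun i hi => by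
    obtain ⟨F, -⟩ := hη i
    haveI := ModuleCat.subsingleton_of_isZero (DerivedCategory.isZero_of_isGE ω a i hi)
    haveI : Subsingleton (S ⊗[A] (hH A i).obj ω) := subsingleton_of_forall_eq 0 fun z => by
      induction z using TensorProduct.induction_on with
      | zero => rfl
      | tmul s f => rw [Subsingleton.elim f 0, TensorProduct.tmul_zero]
      | add x y hx hy => rw [hx, hy, add_zero]
    haveI := F.symm.toEquiv.subsingleton
    exact ModuleCat.isZero_of_subsingleton _
  refine ⟨(DerivedCategory.isGE_iff _ a).2 h1, (DerivedCategory.isGE_iff _ a).2 fun i hi => ?_⟩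
  obtain ⟨e⟩ := DRingLib.exists_homology_iso_mapDerived (ModuleCat.restrictScalars.{u} φ) Z i
  haveI h2 := ModuleCat.subsingleton_of_isZero ((h1 i hi).of_iso e.symm)
  exact @ModuleCat.isZero_of_subsingleton S _ _ h2

/-- `Ext` commutes with flat base change. -/
theorem nonempty_ext_bc {ω : Dual.D A} {a : ℤ} (ha : ω.IsGE a) {Z : Dual.D S}
    {η : ω ⟶ (DRing.restrictD φ).obj Z} (hη : IsBC η) (M : Type u) [AddCommGroup M] [Module A M]
    [Module.Finite A M] (i : ℤ) :
    Nonempty (S ⊗[A] Ext ω (ModuleCat.of A M) i ≃ₗ[S] Ext Z (ModuleCat.of S (S ⊗[A] M)) i) := by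
  obtain ⟨ηM, hM⟩ := exists_univ_single (S := S) (ModuleCat.of A M) (N' := ModuleCat.of S (S ⊗[A] M))
    (DRingLib.extendScalarsEquiv (ModuleCat.of A M)).toModuleIso
  let c := ((DRing.restrictD φ).commShiftIso i).app Z
  let ν : Ext Z (ModuleCat.of S (S ⊗[A] M)) i → Ext ((DRing.restrictD φ).obj Z) (ModuleCat.of A M) i :=
    fun g => ηM ≫ (DRing.restrictD φ).map g ≫ c.hom
  have hν : Function.Bijective ν := by
    refine ⟨fun g g' h => (hM _).1 ?_, fun y => ?_⟩
    · have h' := congrArg (· ≫ c.inv) h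
      simp only [ν, Category.assoc, Iso.hom_inv_id, Category.comp_id] at h'
      exact h'
    · obtain ⟨g, hg⟩ := (hM _).2 (y ≫ c.inv)
      refine ⟨g, ?_⟩
      show ηM ≫ (DRing.restrictD φ).map g ≫ c.hom = y
      rw [← Category.assoc, show ηM ≫ (DRing.restrictD φ).map g = y ≫ c.inv from hg, Category.assoc,
        Iso.inv_hom_id, Category.comp_id]
  have hsmul : ∀ (s : S) (g : Ext Z (ModuleCat.of S (S ⊗[A] M)) i),
      ν (s • g) = ν g ≫ ((DRing.restrictD φ).map (s • 𝟙 Z))⟦i⟧' := fun s g => by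
    have e : s • g = g ≫ (s • 𝟙 Z)⟦i⟧' := by
      rw [Functor.map_smul, CategoryTheory.Functor.map_id, Linear.comp_smul, Category.comp_id]
    show ηM ≫ (DRing.restrictD φ).map (s • g) ≫ c.hom = (ηM ≫ _ ≫ c.hom) ≫ _
    rw [e, Functor.map_comp]
    simp only [Category.assoc]
    exact congrArg (fun z => ηM ≫ (DRing.restrictD φ).map g ≫ z)
      (((DRing.restrictD φ).commShiftIso i).hom.naturality (s • 𝟙 Z))
  have hνadd : ∀ g g', ν (g + g') = ν g + ν g' := fun g g' => by
    simp only [ν, Functor.map_add, Preadditive.add_comp, Preadditive.comp_add]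
  have hA : ∀ j, Function.Bijective (bc (theta η) (ModuleCat.of A A) j) := fun j => by
    obtain ⟨F, hF⟩ := hη j
    exact bijective_bc_ring (theta η) j F F.bijective (map_add F) hF
  have hb := bijective_bc (theta η) ha (exists_isGE hη ha).1 hA (ModuleCat.of A M) i
  let Φ : S ⊗[A] Ext ω (ModuleCat.of A M) i → Ext Z (ModuleCat.of S (S ⊗[A] M)) i :=
    fun z => (Equiv.ofBijective ν hν).symm (bc (theta η) _ i z)
  have hΦ : ∀ z, ν (Φ z) = bc (theta η) _ i z := fun z => Equiv.ofBijective_apply_symm_apply ν hν _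
  have hlin : ∀ (s : S) z, bc (theta η) (ModuleCat.of A M) i (s • z) =
      bc (theta η) _ i z ≫ ((DRing.restrictD φ).map (s • 𝟙 Z))⟦i⟧' := fun s z => by
    induction z using TensorProduct.induction_on with
    | zero => simp
    | tmul t f =>
      rw [TensorProduct.smul_tmul', bc_tmul, bc_tmul, Category.assoc, ← Functor.map_comp]
      refine congrArg (fun k => f ≫ k⟦i⟧') ?_
      show η ≫ (DRing.restrictD φ).map ((s * t) • 𝟙 Z) = (η ≫ _) ≫ _
      rw [Category.assoc, ← Functor.map_comp, Linear.comp_smul, Category.comp_id, mul_smul]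
    | add x y hx hy => rw [smul_add, map_add, map_add, hx, hy, Preadditive.add_comp]
  exact ⟨LinearEquiv.ofBijective
    ({ toFun := Φ
       map_add' := fun x y => hν.1 (by rw [hνadd, hΦ, hΦ, hΦ, map_add])
       map_smul' := fun s z => hν.1 (by
          show ν (Φ (s • z)) = ν (s • Φ z)
          rw [hsmul, hΦ, hΦ, hlin]) } :
      S ⊗[A] Ext ω (ModuleCat.of A M) i →ₗ[S] Ext Z (ModuleCat.of S (S ⊗[A] M)) i)
    (((Equiv.ofBijective ν hν).symm.bijective).comp hb)⟩

theorem van_of_equiv {V W : Type (u + 1)} [AddCommGroup V] [Module A V] [AddCommGroup W] [Module A W]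
    (p : Ideal A) (e : V ≃ₗ[A] W) : Van p V ↔ Van p W :=
  ⟨fun h x => by
    obtain ⟨s, hs, hx⟩ := h (e.symm x)
    exact ⟨s, hs, e.symm.injective (by rw [map_smul, hx, map_zero])⟩,
  fun h x => by
    obtain ⟨s, hs, hx⟩ := h (e x)
    exact ⟨s, hs, e.injective (by rw [map_smul, hx, map_zero])⟩⟩

/-- Vanishing at a prime of a flat base change. -/
theorem van_tensor_iff {V : Type (u + 1)} [AddCommGroup V] [Module A V] (p' : PrimeSpectrum S) :
    Van p'.asIdeal (S ⊗[A] V) ↔ Van (p'.asIdeal.comap φ) V := by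
  constructor
  · intro h v
    by_contra! hv
    let J : Ideal A := LinearMap.ker (LinearMap.toSpanSingleton A V v)
    have hJ : J ≤ p'.asIdeal.comap φ := fun a ha => by_contra fun hn => hv a hn ha
    let f : (A ⧸ J) →ₗ[A] V := J.liftQ (LinearMap.toSpanSingleton A V v) le_rfl
    have hf : Function.Injective f := LinearMap.ker_eq_bot.1 (Submodule.ker_liftQ_eq_bot _ _ _ le_rfl)
    obtain ⟨t, ht, h0⟩ := h ((1 : S) ⊗ₜ v)
    have h1 : f.lTensor S ((t : S) ⊗ₜ (1 : A ⧸ J)) = f.lTensor S 0 := by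
      rw [map_zero, LinearMap.lTensor_tmul, ← h0, TensorProduct.smul_tmul', smul_eq_mul, mul_one]
      exact congrArg (t ⊗ₜ[A] ·) (one_smul A v)
    have h2 := Module.Flat.lTensor_preserves_injective_linearMap (M := S) f hf h1
    have h3 : Submodule.Quotient.mk (p := J.map φ) t = 0 := by
      have := congrArg (Algebra.TensorProduct.quotIdealMapEquivTensorQuot S J).symm h2
      rw [map_zero] at this
      rw [← this]
      show _ = (Algebra.TensorProduct.quotIdealMapEquivTensorQuot S J).symm (t ⊗ₜ ((1 : A) : A ⧸ J))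
      rw [Algebra.TensorProduct.quotIdealMapEquivTensorQuot_symm_tmul, one_smul]
    exact ht ((Ideal.map_le_iff_le_comap.2 hJ) ((Submodule.Quotient.mk_eq_zero _).1 h3))
  · intro h z
    induction z using TensorProduct.induction_on with
    | zero => exact ⟨1, fun h1 => p'.isPrime.ne_top ((Ideal.eq_top_iff_one _).2 h1), smul_zero _⟩
    | tmul s v =>
      obtain ⟨a, ha, hv⟩ := h v
      refine ⟨φ a, ha, ?_⟩
      rw [algebraMap_smul, TensorProduct.smul_tmul', TensorProduct.smul_tmul, hv, TensorProduct.tmul_zero]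
    | add x y hx hy =>
      obtain ⟨a, ha, hx⟩ := hx
      obtain ⟨b, hb, hy⟩ := hy
      refine ⟨a * b, fun h => (p'.isPrime.mem_or_mem h).elim ha hb, ?_⟩
      rw [smul_add, mul_smul, mul_smul, smul_comm, hx, smul_zero, hy, smul_zero, add_zero]

section Local

variable [IsLocalRing A] [IsLocalRing S] [IsNoetherianRing S]

/-- The flat base change of a dualizing complex is dualizing. -/
theorem exists_dualizing_bc (hm : (IsLocalRing.maximalIdeal A).map φ = IsLocalRing.maximalIdeal S)
    {ω : Dual.D A} (hω : Dual.IsDualizing A ω) :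
    ∃ (Z : Dual.D S) (η : ω ⟶ (DRing.restrictD φ).obj Z), IsBC η ∧ ∃ hZ : Dual.IsDualizing S Z,
      deg hZ (closedPt S) = deg hω (closedPt A) := by
  obtain ⟨Z, η, hη⟩ := exists_bc (S := S) ω
  obtain ⟨a, ha⟩ := isGE_dualizing hω
  obtain ⟨d, hvan, ⟨line⟩⟩ := ext_residueField_single_degree ω hω (IsLocalRing.maximalIdeal A)
  let ek : S ⊗[A] (A ⧸ IsLocalRing.maximalIdeal A) ≃ₗ[S] IsLocalRing.ResidueField S :=
    (Algebra.TensorProduct.quotIdealMapEquivTensorQuot S (IsLocalRing.maximalIdeal A)).symm.toLinearEquiv.trans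
      (Submodule.quotEquivOfEq _ _ hm)
  have eExt : ∀ i, Nonempty (S ⊗[A] Ext ω (ModuleCat.of A (A ⧸ IsLocalRing.maximalIdeal A)) i ≃ₗ[S]
      (Dual.inD S (IsLocalRing.ResidueField S) ⟶ Z⟦i⟧)) := fun i => by
    obtain ⟨E⟩ := nonempty_ext_bc ha hη (A ⧸ IsLocalRing.maximalIdeal A) i
    exact ⟨E.trans (precompL ((DerivedCategory.singleFunctor (ModuleCat.{u} S) 0).mapIso
      ek.toModuleIso) (Z⟦i⟧))⟩
  have hR : IsPointwiseDual Z d := by
    refine ⟨fun i => ?_, ⟨a, (exists_isGE hη ha).2⟩, fun i hi => ?_, ?_⟩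
    · haveI := Ext_finite hω A i
      haveI : Module.Finite A (Ext ω (ModuleCat.of A A) i) := inferInstance
      obtain ⟨E⟩ := nonempty_ext_bc ha hη A i
      exact Module.Finite.equiv (E.trans ((precompL ((DerivedCategory.singleFunctor (ModuleCat.{u} S) 0).mapIso
        (TensorProduct.AlgebraTensorModule.rid A S S).toModuleIso) (Z⟦i⟧)).trans (extHL Z i)))
    · obtain ⟨E⟩ := eExt i
      haveI : Subsingleton (Ext ω (ModuleCat.of A (A ⧸ IsLocalRing.maximalIdeal A)) i) := hvan i hi
      haveI : Subsingleton (S ⊗[A] Ext ω (ModuleCat.of A (A ⧸ IsLocalRing.maximalIdeal A)) i) :=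
        subsingleton_of_forall_eq 0 fun z => by
          induction z using TensorProduct.induction_on with
          | zero => rfl
          | tmul s f => rw [Subsingleton.elim f 0, TensorProduct.tmul_zero]
          | add x y hx hy => rw [hx, hy, add_zero]
      exact E.symm.toEquiv.subsingleton
    · obtain ⟨E⟩ := eExt d
      exact ⟨E.symm.trans ((TensorProduct.AlgebraTensorModule.congr (LinearEquiv.refl S S) line).trans ek)⟩
  have hZ := isDualizing_of_pointwise hR
  have hdA : d = deg hω (closedPt A) := IsDeg.eq_deg hω (p := closedPt A)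
    ⟨fun i hi => @van_of_subsingleton A _ (closedPt A).asIdeal _ _ _ _ (hvan i hi), fun h => by
      have h0 : Subsingleton (Dual.inD A (A ⧸ IsLocalRing.maximalIdeal A) ⟶ ω⟦d⟧) :=
        subsingleton_of_van_closedPt (V := Ext ω (ModuleCat.of A (A ⧸ IsLocalRing.maximalIdeal A)) d) h
      exact zero_ne_one (α := A ⧸ IsLocalRing.maximalIdeal A)
        ((@Equiv.subsingleton _ _ line.symm.toEquiv h0).elim _ _)⟩
  refine ⟨Z, η, hη, hZ, (IsDeg.eq_deg hZ (p := closedPt S) (n := d) ⟨fun i hi =>
    @van_of_subsingleton S _ (closedPt S).asIdeal _ _ _ _ (hR.vanishes i hi), fun h => ?_⟩).symm.trans hdA⟩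
  have h0 : Subsingleton (Ext Z (ModuleCat.of S (S ⧸ (closedPt S).asIdeal)) d) :=
    subsingleton_of_van_closedPt h
  obtain ⟨l⟩ := hR.line
  exact zero_ne_one (α := IsLocalRing.ResidueField S) ((@Equiv.subsingleton _ _ l.symm.toEquiv h0).elim _ _)

end Local

variable [IsNoetherianRing S]

/-- Depth along a flat base change of dualizing complexes. -/
theorem depth_bc {ω : Dual.D A} (hω : Dual.IsDualizing A ω) {Z : Dual.D S} (hZ : Dual.IsDualizing S Z)
    {η : ω ⟶ (DRing.restrictD φ).obj Z} (hη : IsBC η) (p' : PrimeSpectrum S) :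
    ∃ δ : ℕ, deg hZ p' = deg hω (PrimeSpectrum.comap φ p') + δ ∧
      ∀ (M : Type u) [AddCommGroup M] [Module A M] [Module.Finite A M],
        LocCoh.depth (Localization.AtPrime p'.asIdeal) (LocalizedModule p'.asIdeal.primeCompl (S ⊗[A] M)) =
          LocCoh.depth (Localization.AtPrime (p'.asIdeal.comap φ))
            (LocalizedModule (p'.asIdeal.comap φ).primeCompl M) + δ := by
  obtain ⟨a, ha⟩ := isGE_dualizing hω
  let p := PrimeSpectrum.comap φ p'
  have key : ∀ (M : Type u) [AddCommGroup M] [Module A M] [Module.Finite A M] (i : ℤ),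
      Van p'.asIdeal (Ext Z (ModuleCat.of S (S ⊗[A] M)) i) ↔ Van p.asIdeal (Ext ω (ModuleCat.of A M) i) :=
    fun M _ _ _ i => by
      obtain ⟨E⟩ := nonempty_ext_bc ha hη M i
      exact (van_of_equiv p'.asIdeal E.symm).trans (van_tensor_iff p')
  have hle : deg hω p ≤ deg hZ p' := by
    by_contra! hlt
    obtain ⟨t, ht, htx⟩ := exists_killed_of_van hZ p'.asIdeal (S ⊗[A] (A ⧸ p.asIdeal)) fun i => by
      by_cases hi : i = deg hω p
      · exact van_of_gt hZ p' i (by omega) (M := S ⊗[A] (A ⧸ p.asIdeal))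
      · exact (key (A ⧸ p.asIdeal) i).2 ((isDeg_deg hω p).1 i hi)
    have h2 := congrArg (Algebra.TensorProduct.quotIdealMapEquivTensorQuot S p.asIdeal).symm
      (htx ((1 : S) ⊗ₜ ((1 : A) : A ⧸ p.asIdeal)))
    rw [map_zero, TensorProduct.smul_tmul', smul_eq_mul, mul_one,
      Algebra.TensorProduct.quotIdealMapEquivTensorQuot_symm_tmul, one_smul] at h2
    exact ht (Ideal.map_comap_le ((Submodule.Quotient.mk_eq_zero _).1 h2))
  refine ⟨(deg hZ p' - deg hω p).toNat, by show _ = deg hω p + _; omega, fun M _ _ _ => ?_⟩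
  set δ := (deg hZ p' - deg hω p).toNat with hδ
  refine ENat.eq_of_forall_natCast_le_iff fun n => ?_
  have h1 : (n : ℕ∞) ≤ LocCoh.depth (Localization.AtPrime p.asIdeal) (LocalizedModule p.asIdeal.primeCompl M) + δ ↔
      ((n - δ : ℕ) : ℕ∞) ≤ LocCoh.depth (Localization.AtPrime p.asIdeal) (LocalizedModule p.asIdeal.primeCompl M) := by
    rw [ENat.natCast_sub, tsub_le_iff_right]
  refine ((le_depth_iff_van hZ p' n (S ⊗[A] M)).trans ?_).trans h1.symm
  rw [le_depth_iff_van hω p (n - δ) M]
  constructor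
  · intro h j hj
    have := (key M _).1 (h (j + δ) (by omega))
    rwa [show deg hZ p' - ((j + δ : ℕ) : ℤ) = deg hω p - (j : ℤ) by omega] at this
  · intro h j hj
    refine (key M _).2 ?_
    by_cases hjd : δ ≤ j
    · have := h (j - δ) (by omega)
      rwa [show deg hω p - ((j - δ : ℕ) : ℤ) = deg hZ p' - (j : ℤ) by omega] at this
    · exact van_of_gt hω p _ (by omega) (M := M)

end FlatExtLib
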