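import Groth.Agent.DualCxLib.DimFnLocal
import Groth.Agent.DualCxLib.LocDualBase
import Mathlib.RingTheory.Flat.Basic

/-!
# Flat base change of `Ext` into a bounded below object
-/

set_option autoImplicit false
set_option linter.unusedSectionVars false
set_option maxHeartbeats 1000000

universe u

open CategoryTheory CategoryTheory.Limits
open Groth.Agent
open DTenLib.Point (hH sg)
open scoped TensorProduct

attribute [local instance] HasDerivedCategory.standard

noncomputable section

namespace FlatExtLib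

open Groth.Agent.DualCxLib

variable {A : Type u} [CommRing A] {S : Type u} [AddCommGroup S] [Module A S]
  {ω T : Dual.D A} (θ : S →ₗ[A] (ω ⟶ T))

/-- Postcomposition. -/
def post (M : ModuleCat.{u} A) (i : ℤ) : S →ₗ[A] Ext ω M i →ₗ[A] Ext T M i where
  toFun s :=
    { toFun := fun f => f ≫ (θ s)⟦i⟧'
      map_add' := fun f g => by
        show (f + g) ≫ (θ s)⟦i⟧' = f ≫ (θ s)⟦i⟧' + g ≫ (θ s)⟦i⟧'
        rw [Preadditive.add_comp]
      map_smul' := fun r f => by
        show (r • f) ≫ (θ s)⟦i⟧' = r • (f ≫ (θ s)⟦i⟧')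
        rw [Linear.smul_comp] }
  map_add' s t := LinearMap.ext fun f => by
    show f ≫ (θ (s + t))⟦i⟧' = f ≫ (θ s)⟦i⟧' + f ≫ (θ t)⟦i⟧'
    rw [map_add, Functor.map_add, Preadditive.comp_add]
  map_smul' r s := LinearMap.ext fun f => by
    show f ≫ (θ (r • s))⟦i⟧' = r • (f ≫ (θ s)⟦i⟧')
    rw [map_smul, Functor.map_smul, Linear.comp_smul]

/-- The comparison map. -/
def bc (M : ModuleCat.{u} A) (i : ℤ) : S ⊗[A] Ext ω M i →ₗ[A] Ext T M i :=
  TensorProduct.lift (post θ M i)

@[simp]
theorem bc_tmul (M : ModuleCat.{u} A) (i : ℤ) (s : S) (f : Ext ω M i) :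
    bc θ M i (s ⊗ₜ f) = f ≫ (θ s)⟦i⟧' := rfl

theorem bc_extMap {M N : ModuleCat.{u} A} (φ : M ⟶ N) (i : ℤ) (z : S ⊗[A] Ext ω N i) :
    bc θ M i ((extMap ω φ i).lTensor S z) = extMap T φ i (bc θ N i z) := by
  induction z using TensorProduct.induction_on with
  | zero => simp
  | tmul s f =>
    show ((DerivedCategory.singleFunctor (ModuleCat.{u} A) 0).map φ ≫ f) ≫ (θ s)⟦i⟧' =
      (DerivedCategory.singleFunctor (ModuleCat.{u} A) 0).map φ ≫ (f ≫ (θ s)⟦i⟧')
    rw [Category.assoc]
  | add x y hx hy => simp only [map_add, hx, hy]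

theorem conn_comp {X : ShortComplex (ModuleCat.{u} A)} (hX : X.ShortExact) (t : ω ⟶ T) (j i : ℤ)
    (h : j + 1 = i) (g : Ext ω X.X₁ j) :
    conn T hX j i h (g ≫ t⟦j⟧') = conn ω hX j i h g ≫ t⟦i⟧' := by
  have e : (t⟦j⟧')⟦(1 : ℤ)⟧' ≫ (shift₂ T j 1 i h).hom = (shift₂ ω j 1 i h).hom ≫ t⟦i⟧' :=
    (shiftFunctorAdd' (Dual.D A) j 1 i h).inv.naturality t
  show hX.singleδ ≫ (g ≫ t⟦j⟧')⟦(1 : ℤ)⟧' ≫ _ = (hX.singleδ ≫ g⟦(1 : ℤ)⟧' ≫ _) ≫ _
  simp only [Functor.map_comp, Category.assoc, e]

theorem bc_conn {X : ShortComplex (ModuleCat.{u} A)} (hX : X.ShortExact) (j i : ℤ) (h : j + 1 = i)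
    (z : S ⊗[A] Ext ω X.X₁ j) :
    bc θ X.X₃ i ((conn ω hX j i h).lTensor S z) = conn T hX j i h (bc θ X.X₁ j z) := by
  induction z using TensorProduct.induction_on with
  | zero => simp
  | tmul s f => exact (conn_comp hX (θ s) j i h f).symm
  | add x y hx hy => simp only [map_add, hx, hy]

theorem subsingleton_ext_lt {a : ℤ} (ha : ω.IsGE a) (M : ModuleCat.{u} A) (i : ℤ) (hi : i < a) :
    Subsingleton (Ext ω M i) := by
  refine subsingleton_of_forall_eq 0 fun f => ?_
  haveI := DerivedCategory.TStructure.t.isGE_shift ω a i (a - i) (by omega)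
  exact DerivedCategory.TStructure.t.zero f 0 (a - i) (by omega)

theorem bijective_bc_free (n : ℕ) (i : ℤ) (h : Function.Bijective (bc θ (ModuleCat.of A A) i)) :
    Function.Bijective (bc θ (ModuleCat.of A (Fin n → A)) i) := by
  classical
  let ι : Fin n → (ModuleCat.of A A ⟶ ModuleCat.of A (Fin n → A)) :=
    fun j => ModuleCat.ofHom (LinearMap.single A (fun _ => A) j)
  let p : Fin n → (ModuleCat.of A (Fin n → A) ⟶ ModuleCat.of A A) :=
    fun j => ModuleCat.ofHom (LinearMap.proj j)
  have h1 : 𝟙 (ModuleCat.of A (Fin n → A)) = ∑ j, p j ≫ ι j :=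
    ModuleCat.hom_ext (LinearMap.ext fun x => by
      funext k
      simp [ι, p, ModuleCat.hom_sum, Finset.sum_apply, Pi.single_apply])
  have key : ∀ {U : Dual.D A} (f : Ext U (ModuleCat.of A (Fin n → A)) i),
      f = ∑ j, extMap U (p j) i (extMap U (ι j) i f) := fun {U} f => by
    have h2 := congrArg (fun φ => extMap U φ i f) h1
    change (DerivedCategory.singleFunctor (ModuleCat.{u} A) 0).map (𝟙 _) ≫ f =
      (DerivedCategory.singleFunctor (ModuleCat.{u} A) 0).map _ ≫ f at h2
    rw [CategoryTheory.Functor.map_id, Category.id_comp, Functor.map_sum, Preadditive.sum_comp] at h2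
    refine h2.trans (Finset.sum_congr rfl fun j _ => ?_)
    rw [Functor.map_comp, Category.assoc]
    rfl
  have key' : ∀ z : S ⊗[A] Ext ω (ModuleCat.of A (Fin n → A)) i,
      z = ∑ j, (extMap ω (p j) i).lTensor S ((extMap ω (ι j) i).lTensor S z) := fun z => by
    induction z using TensorProduct.induction_on with
    | zero => simp
    | tmul s f =>
      simp only [LinearMap.lTensor_tmul]
      rw [← TensorProduct.tmul_sum, ← key f]
    | add x y hx hy =>
      conv_lhs => rw [hx, hy]
      simp only [map_add, Finset.sum_add_distrib]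
  refine ⟨(injective_iff_map_eq_zero _).2 fun z hz => ?_, fun g => ?_⟩
  · rw [key' z]
    refine Finset.sum_eq_zero fun j _ => ?_
    have : (extMap ω (ι j) i).lTensor S z = 0 :=
      (map_eq_zero_iff _ h.1).1 ((bc_extMap θ (ι j) i z).trans (by rw [hz, map_zero]))
    rw [this, map_zero]
  · choose w hw using fun j => h.2 (extMap T (ι j) i g)
    refine ⟨∑ j, (extMap ω (p j) i).lTensor S (w j), ?_⟩
    rw [map_sum]
    refine (Finset.sum_congr rfl fun j _ => ?_).trans (key g).symm
    rw [bc_extMap, hw]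

variable [IsNoetherianRing A] [Module.Flat A S]

/-- The comparison is bijective on finite modules once it is on `A`. -/
theorem bijective_bc {a : ℤ} (haω : ω.IsGE a) (haT : T.IsGE a)
    (hA : ∀ i, Function.Bijective (bc θ (ModuleCat.of A A) i))
    (M : ModuleCat.{u} A) [Module.Finite A M] (i : ℤ) : Function.Bijective (bc θ M i) := by
  suffices H : ∀ (n : ℕ) (M : ModuleCat.{u} A) [Module.Finite A M] (i : ℤ), i < a + n →
      Function.Bijective (bc θ M i) from H (i - a + 1).toNat M i (by omega)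
  intro n
  induction n with
  | zero =>
    intro M _ i hi
    haveI := subsingleton_ext_lt haω M i (by simpa using hi)
    haveI := subsingleton_ext_lt haT M i (by simpa using hi)
    haveI : Subsingleton (S ⊗[A] Ext ω M i) := subsingleton_of_forall_eq 0 fun z => by
      induction z using TensorProduct.induction_on with
      | zero => rfl
      | tmul s f => rw [Subsingleton.elim f 0, TensorProduct.tmul_zero]
      | add x y hx hy => rw [hx, hy, add_zero]
    exact ⟨fun x y _ => Subsingleton.elim _ _, fun y => ⟨0, Subsingleton.elim _ _⟩⟩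
  | succ n ih =>
    intro M _ i hi
    have pres : ∀ (M : ModuleCat.{u} A) [Module.Finite A M],
        ∃ (k : ℕ) (X : ShortComplex (ModuleCat.{u} A)) (_ : X.ShortExact) (_ : Module.Finite A X.X₁),
          X.X₂ = ModuleCat.of A (Fin k → A) ∧ X.X₃ = M := fun M _ => by
      obtain ⟨k, π, hπ⟩ := Module.Finite.exists_fin' A M
      exact ⟨k, ShortComplex.mk (ModuleCat.ofHom (LinearMap.ker π).subtype)
        (ModuleCat.ofHom π : ModuleCat.of A (Fin k → A) ⟶ M)
        (ModuleCat.hom_ext (LinearMap.ext fun x => x.2)),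
        { exact := (ShortComplex.moduleCat_exact_iff_range_eq_ker _).2 (Submodule.range_subtype _)
          mono_f := (ModuleCat.mono_iff_injective _).2 Subtype.val_injective
          epi_g := (ModuleCat.epi_iff_surjective _).2 hπ },
        inferInstanceAs (Module.Finite A (LinearMap.ker π)), rfl, rfl⟩
    have hinj : ∀ (M : ModuleCat.{u} A) [Module.Finite A M], Function.Injective (bc θ M i) := fun M _ => by
      obtain ⟨k, X, hX, hfin, hF, rfl⟩ := pres M
      have h2 : Function.Bijective (bc θ X.X₂ i) := hF ▸ bijective_bc_free θ k i (hA i)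
      have h2' : Function.Bijective (bc θ X.X₂ (i - 1)) := hF ▸ bijective_bc_free θ k (i - 1) (hA (i - 1))
      have h1 : Function.Bijective (bc θ X.X₁ (i - 1)) := ih X.X₁ (i - 1) (by push_cast at hi; omega)
      refine (injective_iff_map_eq_zero _).2 fun z hz => ?_
      have hg : (extMap ω X.g i).lTensor S z = 0 :=
        (map_eq_zero_iff _ h2.1).1 ((bc_extMap θ X.g i z).trans (by rw [hz, map_zero]))
      obtain ⟨w, rfl⟩ := (Module.Flat.lTensor_exact S (f := conn ω hX (i - 1) i (by omega))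
        (g := extMap ω X.g i) (fun g => ⟨fun hg => exists_conn_eq ω hX (i - 1) i (by omega) g hg,
          fun ⟨w, hw⟩ => hw ▸ extMap_g_conn ω hX (i - 1) i (by omega) w⟩) z).1 hg
      rw [bc_conn] at hz
      obtain ⟨v, hv⟩ := exists_extMap_f_eq T hX (i - 1) i (by omega) _ hz
      obtain ⟨v', rfl⟩ := h2'.2 v
      rw [← bc_extMap] at hv
      rw [← h1.1 hv, ← LinearMap.comp_apply, ← LinearMap.lTensor_comp]
      have : (conn ω hX (i - 1) i (by omega)).comp (extMap ω X.f (i - 1)) = 0 :=
        LinearMap.ext fun g => conn_extMap_f ω hX (i - 1) i (by omega) g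
      rw [this, LinearMap.lTensor_zero, LinearMap.zero_apply]
    refine ⟨hinj M, ?_⟩
    obtain ⟨k, X, hX, hfin, hF, rfl⟩ := pres M
    have h2 : Function.Bijective (bc θ X.X₂ i) := hF ▸ bijective_bc_free θ k i (hA i)
    have h1 : Function.Bijective (bc θ X.X₁ (i - 1)) := ih X.X₁ (i - 1) (by push_cast at hi; omega)
    intro y
    obtain ⟨v, hv⟩ := h2.2 (extMap T X.g i y)
    have hfv : (extMap ω X.f i).lTensor S v = 0 := (map_eq_zero_iff _ (hinj X.X₁)).1
      ((bc_extMap θ X.f i v).trans (by rw [hv]; exact extMap_f_extMap_g T hX i y))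
    obtain ⟨v', rfl⟩ := (Module.Flat.lTensor_exact S (f := extMap ω X.g i)
      (g := extMap ω X.f i) (fun g => ⟨fun hg => (exists_of_extMap_f_eq_zero hX i g hg).imp fun _ h => h.symm,
        fun ⟨w, hw⟩ => hw ▸ extMap_f_extMap_g ω hX i w⟩) v).1 hfv
    rw [bc_extMap] at hv
    obtain ⟨w, hw⟩ := exists_conn_eq T hX (i - 1) i (by omega) (y - bc θ X.X₃ i v')
      (by rw [map_sub, hv, sub_self])
    obtain ⟨w', rfl⟩ := h1.2 w
    refine ⟨(conn ω hX (i - 1) i (by omega)).lTensor S w' + v', ?_⟩
    rw [map_add, bc_conn, hw, sub_add_cancel]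

/-- It is enough to know the comparison on cohomology. -/
theorem bijective_bc_ring (i : ℤ) (F : S ⊗[A] (hH A i).obj ω → (hH A i).obj T) (hF : Function.Bijective F)
    (hadd : ∀ x y, F (x + y) = F x + F y) (htmul : ∀ s x, F (s ⊗ₜ x) = ((hH A i).map (θ s)).hom x) :
    Function.Bijective (bc θ (ModuleCat.of A A) i) := by
  have nat : ∀ (t : ω ⟶ T) (f : Ext ω (ModuleCat.of A A) i),
      extHL T i (f ≫ t⟦i⟧') = ((hH A i).map t).hom (extHL ω i f) := fun t f => by
    obtain ⟨g, rfl⟩ := (extRingL ω i).symm.surjective f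
    have e : (extRingL ω i).symm g ≫ t⟦i⟧' = (extRingL T i).symm (g ≫ t) := by
      simp [extRingL, shiftL, precompL, Linear.homCongr_apply, Linear.homCongr_symm_apply, Functor.map_comp]
    show evGen T i (extRingL T i ((extRingL ω i).symm g ≫ t⟦i⟧')) =
      ((hH A i).map t).hom (evGen ω i (extRingL ω i ((extRingL ω i).symm g)))
    rw [e, LinearEquiv.apply_symm_apply, LinearEquiv.apply_symm_apply]
    exact congr($((hH A i).map_comp g t) (genH A i))
  have hz : F 0 = 0 := left_eq_add.1 ((congrArg F (add_zero 0).symm).trans (hadd 0 0))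
  have key : ∀ z : S ⊗[A] Ext ω (ModuleCat.of A A) i,
      extHL T i (bc θ _ i z) = F ((LinearEquiv.lTensor S (extHL ω i)) z) := fun z => by
    induction z using TensorProduct.induction_on with
    | zero => simp [hz]
    | tmul s f => rw [bc_tmul, LinearEquiv.lTensor_tmul, htmul, nat]
    | add x y hx hy => simp only [map_add, hadd, hx, hy]
  refine ((extHL T i).bijective.of_comp_iff' _).1 ?_
  rw [show (extHL T i) ∘ (bc θ (ModuleCat.of A A) i) = F ∘ (LinearEquiv.lTensor S (extHL ω i)) from funext key]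
  exact hF.comp (LinearEquiv.bijective _)

end FlatExtLib
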